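import Cfsg.Agent.H595.RC.Quad
import Cfsg.Agent.LieClassical.OrthCore

/-!
# S3510, row F, box G1 (helper595): structure of a commuting family of isometries of `p'`-order
-/

set_option autoImplicit false

namespace Cfsg.Agent.H595.RC

open QuadraticMap Module
open Cfsg.Agent.LieClassical.OrthCore

section alg

variable {F V : Type} [Field F] [AddCommGroup V] [Module F V] {Q : QuadraticForm F V}
  {ι : Type} (T : ι → V ≃ₗ[F] V)

/-- `D` is preserved by everything commuting with the `T i` -/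
def BicInv (T : ι → V ≃ₗ[F] V) (D : Submodule F V) : Prop :=
  ∀ f : V →ₗ[F] V, (∀ i v, f (T i v) = T i (f v)) → ∀ v ∈ D, f v ∈ D

/-- the algebra generated by the family -/
abbrev AA : Subalgebra F (V →ₗ[F] V) := Algebra.adjoin F (Set.range fun i => ((T i : V →ₗ[F] V)))

variable {T}

theorem T_mem (i : ι) : (T i : V →ₗ[F] V) ∈ AA T := Algebra.subset_adjoin ⟨i, rfl⟩

/-- a map commuting with the `T i` commutes with the algebra -/
theorem comm_AA {f : V →ₗ[F] V} (hf : ∀ i v, f (T i v) = T i (f v)) {g : V →ₗ[F] V} (hg : g ∈ AA T) :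
    f * g = g * f := by
  refine Algebra.commute_of_mem_adjoin_of_forall_mem_commute hg ?_
  rintro _ ⟨i, rfl⟩
  exact LinearMap.ext fun v => hf i v

theorem comm_T (hc : ∀ i j, T i * T j = T j * T i) {g : V →ₗ[F] V} (hg : g ∈ AA T) (i : ι) (v : V) :
    g (T i v) = T i (g v) := by
  have h := comm_AA (T := T) (f := (T i : V →ₗ[F] V)) (fun j w => congrArg (fun e : V ≃ₗ[F] V => e w) (hc i j)) hg
  exact (congrArg (fun e : V →ₗ[F] V => e v) h).symm

theorem comm_AA2 (hc : ∀ i j, T i * T j = T j * T i) {f g : V →ₗ[F] V} (hf : f ∈ AA T) (hg : g ∈ AA T) :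
    f * g = g * f := comm_AA (comm_T hc hf) hg

/-- every element of the algebra is equal to a power of itself -/
theorem exists_pow [Finite F] [Nontrivial V] {p : ℕ} [CharP F p] [Finite ι] {r : ι → ℕ} (hr : ∀ i, (r i).Prime)
    (hrp : ∀ i, r i ≠ p) (hpow : ∀ i, T i ^ r i = 1) (hc : ∀ i j, T i * T j = T j * T i) :
    ∃ m : ℕ, 2 ≤ m ∧ ∀ f ∈ AA T, f ^ m = f := by
  classical
  have := Fintype.ofFinite ι
  have := Fintype.ofFinite F
  have hpp : Fact p.Prime := ⟨CharP.char_is_prime F p⟩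
  obtain ⟨⟨k, hk0⟩, -, hk⟩ := FiniteField.card F p
  simp only [PNat.mk_coe] at hk
  have hN : 0 < ∏ i, (r i - 1) := Finset.prod_pos fun i _ => Nat.sub_pos_of_lt (hr i).one_lt
  set N := ∏ i, (r i - 1) with hNdef
  refine ⟨(Fintype.card F) ^ N, ?_, ?_⟩
  · calc 2 ≤ Fintype.card F := Fintype.one_lt_card
      _ = (Fintype.card F) ^ 1 := (pow_one _).symm
      _ ≤ (Fintype.card F) ^ N := Nat.pow_le_pow_right Fintype.card_pos hN
  -- the power is a ring homomorphism on the algebra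
  have hm : (Fintype.card F) ^ N = p ^ (k * N) := by rw [hk, ← pow_mul]
  have hchar : CharP (V →ₗ[F] V) p := charP_of_injective_algebraMap (algebraMap F (V →ₗ[F] V)).injective p
  intro f hf
  induction hf using Algebra.adjoin_induction with
  | mem x hx =>
    obtain ⟨i, rfl⟩ := hx
    have h1 : Fintype.card F ^ N ≡ 1 [MOD r i] := by
      have hcop : Nat.Coprime (Fintype.card F) (r i) := by
        rw [hk]
        apply Nat.Coprime.pow_left
        exact (Nat.coprime_primes hpp.out (hr i)).mpr (hrp i).symm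
      have h2 := Nat.ModEq.pow_totient hcop
      rw [Nat.totient_prime (hr i)] at h2
      obtain ⟨l, hl⟩ : r i - 1 ∣ N := Finset.dvd_prod_of_mem _ (Finset.mem_univ i)
      rw [hl, pow_mul]
      simpa using h2.pow l
    have h3 : T i ^ (Fintype.card F ^ N) = T i := by
      have h4 : T i ^ (Fintype.card F ^ N) = T i ^ 1 := by
        rw [pow_eq_pow_iff_modEq]
        exact h1.of_dvd (orderOf_dvd_of_pow_eq_one (hpow i))
      rw [h4, pow_one]
    have h5 : ∀ n : ℕ, ((T i : V →ₗ[F] V)) ^ n = ((T i ^ n : V ≃ₗ[F] V) : V →ₗ[F] V) := by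
      intro n
      induction n with
      | zero => rfl
      | succ n ih => rw [pow_succ, ih, pow_succ]; rfl
    rw [h5, h3]
  | algebraMap a =>
    rw [← map_pow, FiniteField.pow_card_pow]
  | add x y hx hy ihx ihy =>
    rw [hm] at ihx ihy ⊢
    have h1 : Commute x y := comm_AA2 hc hx hy
    rw [add_pow_char_pow_of_commute _ _ h1, ihx, ihy]
  | mul x y hx hy ihx ihy =>
    have h1 : Commute x y := comm_AA2 hc hx hy
    rw [h1.mul_pow, ihx, ihy]

/-- adjoints -/
def Adj (Q : QuadraticForm F V) (f g : V →ₗ[F] V) : Prop := ∀ v w, polar Q (f v) w = polar Q v (g w)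

theorem Adj.symm {f g : V →ₗ[F] V} (h : Adj Q f g) : Adj Q g f := fun v w => by
  rw [polar_comm, ← h, polar_comm]

theorem Adj.unique (hQ : Nondeg Q) {f g g' : V →ₗ[F] V} (h : Adj Q f g) (h' : Adj Q f g') : g = g' := by
  apply LinearMap.ext
  intro w
  rw [← sub_eq_zero]
  apply hQ
  intro v
  rw [polar_comm, polar_sub_right, ← h, ← h', sub_self]

theorem Adj.mul {f g f' g' : V →ₗ[F] V} (h : Adj Q f g) (h' : Adj Q f' g') : Adj Q (f * f') (g' * g) := fun v w => by
  show polar Q (f (f' v)) w = polar Q v (g' (g w))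
  rw [h, h']

theorem Adj.add {f g f' g' : V →ₗ[F] V} (h : Adj Q f g) (h' : Adj Q f' g') : Adj Q (f + f') (g + g') := fun v w => by
  show polar Q (f v + f' v) w = polar Q v (g w + g' w)
  rw [polar_add_left, polar_add_right, h, h']

theorem Adj.sub {f g f' g' : V →ₗ[F] V} (h : Adj Q f g) (h' : Adj Q f' g') : Adj Q (f - f') (g - g') := fun v w => by
  show polar Q (f v - f' v) w = polar Q v (g w - g' w)
  rw [polar_sub_left, polar_sub_right, h, h']

theorem Adj.algebraMap (a : F) : Adj Q (algebraMap F (V →ₗ[F] V) a) (algebraMap F (V →ₗ[F] V) a) := fun v w => by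
  show polar Q (a • v) w = polar Q v (a • w)
  rw [polar_smul_left, polar_smul_right]

theorem Adj.one : Adj Q (1 : V →ₗ[F] V) 1 := fun _ _ => rfl

theorem Adj.of_O {g : V ≃ₗ[F] V} (hg : g ∈ O Q) : Adj Q (g : V →ₗ[F] V) ((g⁻¹ : V ≃ₗ[F] V) : V →ₗ[F] V) := fun v w => by
  have h := polar_map hg v (g⁻¹ w)
  have h2 : g (g⁻¹ w) = w := g.apply_symm_apply w
  rw [h2] at h
  exact h

theorem exists_adj {r : ι → ℕ} (hr : ∀ i, (r i).Prime) (hO : ∀ i, T i ∈ O Q) (hpow : ∀ i, T i ^ r i = 1)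
    {f : V →ₗ[F] V} (hf : f ∈ AA T) : ∃ g ∈ AA T, Adj Q f g := by
  induction hf using Algebra.adjoin_induction with
  | mem x hx =>
    obtain ⟨i, rfl⟩ := hx
    refine ⟨_, ?_, Adj.of_O (hO i)⟩
    have h5 : ∀ n : ℕ, ((T i : V →ₗ[F] V)) ^ n = ((T i ^ n : V ≃ₗ[F] V) : V →ₗ[F] V) := by
      intro n
      induction n with
      | zero => rfl
      | succ n ih => rw [pow_succ, ih, pow_succ]; rfl
    have h6 : (T i)⁻¹ = T i ^ (r i - 1) := by
      rw [inv_eq_iff_mul_eq_one, ← pow_succ', Nat.sub_add_cancel (hr i).one_lt.le, hpow]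
    rw [h6, ← h5]
    exact pow_mem (T_mem i) _
  | algebraMap a => exact ⟨_, Subalgebra.algebraMap_mem _ a, Adj.algebraMap a⟩
  | add x y hx hy ihx ihy =>
    obtain ⟨g, hg, h⟩ := ihx
    obtain ⟨g', hg', h'⟩ := ihy
    exact ⟨g + g', add_mem hg hg', h.add h'⟩
  | mul x y hx hy ihx ihy =>
    obtain ⟨g, hg, h⟩ := ihx
    obtain ⟨g', hg', h'⟩ := ihy
    exact ⟨g' * g, mul_mem hg' hg, h.mul h'⟩

end alg

section main

variable {F V : Type} [Field F] [AddCommGroup V] [Module F V] {Q : QuadraticForm F V}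
  {ι : Type} {T : ι → V ≃ₗ[F] V}

/-- support idempotents -/
theorem exists_supp {m : ℕ} (hm2 : 2 ≤ m) (hm : ∀ f ∈ AA T, f ^ m = f) {f : V →ₗ[F] V} (hf : f ∈ AA T) :
    ∃ e ∈ AA T, ∃ g ∈ AA T, e * e = e ∧ e * f = f ∧ f * e = f ∧ f * g = e ∧ g * f = e := by
  obtain ⟨k, rfl⟩ := Nat.exists_eq_add_of_le hm2
  have h := hm f hf
  have e1 : f ^ (k + 1) * f = f := by rw [← pow_succ, ← h]; congr 1; omega
  have e2 : f * f ^ (k + 1) = f := by rw [← pow_succ', ← h]; congr 1; omega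
  refine ⟨f ^ (k + 1), pow_mem hf _, f ^ k, pow_mem hf _, ?_, e1, e2, (pow_succ' f k).symm, (pow_succ f k).symm⟩
  calc f ^ (k + 1) * f ^ (k + 1) = f ^ k * (f * f ^ (k + 1)) := by rw [← mul_assoc, ← pow_succ]
    _ = f ^ (k + 1) := by rw [e2, ← pow_succ]

/-- `T - 1` is invertible if there are no self-adjoint idempotents -/
theorem exists_inv {m : ℕ} (hQ : Nondeg Q) (hm2 : 2 ≤ m) (hm : ∀ f ∈ AA T, f ^ m = f) {r : ι → ℕ}
    (hO : ∀ i, T i ∈ O Q) (hr : ∀ i, (r i).Prime)
    (hpow : ∀ i, T i ^ r i = 1)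
    (hno : ∀ e ∈ AA T, e * e = e → Adj Q e e → e = 0 ∨ e = 1) (i : ι) (hi : T i ≠ 1) :
    ∃ g ∈ AA T, ∀ v, T i (g v) - g v = v := by
  set f : V →ₗ[F] V := (T i : V →ₗ[F] V) - 1 with hfdef
  have hf : f ∈ AA T := sub_mem (T_mem i) (one_mem _)
  obtain ⟨e, he, g, hg, hee, hef, hfe, hfg, hgf⟩ := exists_supp hm2 hm hf
  -- the adjoint of `f`
  have hf' : Adj Q f (((T i)⁻¹ : V ≃ₗ[F] V) - 1 : V →ₗ[F] V) := (Adj.of_O (hO i)).sub Adj.one
  have hf'2 : (((T i)⁻¹ : V ≃ₗ[F] V) - 1 : V →ₗ[F] V) = -((((T i)⁻¹ : V ≃ₗ[F] V) : V →ₗ[F] V) * f) := by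
    apply LinearMap.ext
    intro v
    show (T i)⁻¹ v - v = -((T i)⁻¹ (T i v - v))
    rw [map_sub]
    have : (T i)⁻¹ (T i v) = v := (T i).symm_apply_apply v
    rw [this]
    abel
  obtain ⟨g', hg', hgg'⟩ := exists_adj hr hO hpow hg
  have hadj : Adj Q e (g' * (((T i)⁻¹ : V ≃ₗ[F] V) - 1 : V →ₗ[F] V)) := by
    rw [← hfg]; exact hf'.mul hgg'
  set e' : V →ₗ[F] V := g' * (((T i)⁻¹ : V ≃ₗ[F] V) - 1 : V →ₗ[F] V) with he'
  have h1 : e' * e = e' := by
    rw [he', hf'2, mul_assoc, neg_mul, mul_assoc, hfe]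
  have h2 : Adj Q e' e' := by
    have := hadj.mul hadj.symm
    have h3 : Adj Q (e' * e) (e' * e) := hadj.symm.mul hadj
    rwa [h1] at h3
  have h3 : e' = e := Adj.unique hQ h2 hadj.symm
  rw [h3] at hadj
  rcases hno e he hee hadj with h | h
  · exfalso
    apply hi
    rw [h, zero_mul] at hef
    apply LinearEquiv.toLinearMap_injective
    exact (sub_eq_zero.mp hef.symm)
  · refine ⟨g, hg, fun v => ?_⟩
    rw [h] at hfg
    exact congrArg (fun z : V →ₗ[F] V => z v) hfg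

/-- the alternative for idempotents -/
theorem idem_alt (hQ : Nondeg Q) {r : ι → ℕ} (hO : ∀ i, T i ∈ O Q) (hr : ∀ i, (r i).Prime)
    (hpow : ∀ i, T i ^ r i = 1) (hc : ∀ i j, T i * T j = T j * T i)
    (hno : ∀ e ∈ AA T, e * e = e → Adj Q e e → e = 0 ∨ e = 1) {e : V →ₗ[F] V} (he : e ∈ AA T) (hee : e * e = e)
    (h0 : e ≠ 0) (h1 : e ≠ 1) : Adj Q e (1 - e) := by
  have key : ∀ e ∈ AA T, e * e = e → e ≠ 1 → ∀ e' ∈ AA T, Adj Q e e' → e * e' = 0 := by
    intro e he hee h1 e' he' h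
    have hcomm := comm_AA2 hc he he'
    have he'2 : e' * e' = e' := by
      apply Adj.unique hQ (f := e) _ h
      have := h.mul h
      rwa [hee] at this
    rcases hno (e * e') (mul_mem he he') (by
      calc e * e' * (e * e') = e * (e' * e) * e' := by simp only [mul_assoc]
        _ = (e * e) * (e' * e') := by rw [← hcomm]; simp only [mul_assoc]
        _ = e * e' := by rw [hee, he'2]) (h.mul h.symm) with h3 | h3
    · exact h3
    · exfalso
      apply h1
      calc e = e * (e * e') := by rw [h3, mul_one]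
        _ = e * e' := by rw [← mul_assoc, hee]
        _ = 1 := h3
  obtain ⟨e', he', h⟩ := exists_adj hr hO hpow he
  have h2 := key e he hee h1 e' he' h
  have h3 := key (1 - e) (sub_mem (one_mem _) he) (by
    rw [mul_sub, mul_one, sub_mul, one_mul, hee, sub_self, sub_zero]) (by
      intro h4
      apply h0
      rw [sub_eq_self] at h4
      exact h4) (1 - e') (sub_mem (one_mem _) he') (Adj.one.sub h)
  have h4 : e' = 1 - e := by
    rw [mul_sub, mul_one, sub_mul, one_mul, h2, sub_zero] at h3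
    rw [← sub_eq_zero, ← neg_eq_zero, ← h3]
    abel
  rw [← h4]
  exact h

/-- the case of two totally singular subspaces -/
theorem caseB {m : ℕ} (hQ : Nondeg Q) (hm2 : 2 ≤ m) (hm : ∀ f ∈ AA T, f ^ m = f) {r : ι → ℕ}
    (hO : ∀ i, T i ∈ O Q) (hr : ∀ i, (r i).Prime)
    (hpow : ∀ i, T i ^ r i = 1) (hc : ∀ i j, T i * T j = T j * T i)
    (hno : ∀ e ∈ AA T, e * e = e → Adj Q e e → e = 0 ∨ e = 1) (i : ι) (hi : T i ≠ 1)
    {e : V →ₗ[F] V} (he : e ∈ AA T) (hee : e * e = e) (h0 : e ≠ 0) (h1 : e ≠ 1) :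
    ∃ W W' : Submodule F V, IsCompl W W' ∧ (∀ v ∈ W, Q v = 0) ∧ (∀ v ∈ W', Q v = 0) ∧
      (∀ f : V →ₗ[F] V, (∀ i v, f (T i v) = T i (f v)) → ∀ v ∈ W, f v ∈ W) ∧
      (∀ f : V →ₗ[F] V, (∀ i v, f (T i v) = T i (f v)) → ∀ v ∈ W', f v ∈ W') ∧
      (∀ v ∈ W, v ≠ 0 → ∀ f ∈ AA T, f v = 0 → ∀ w ∈ W, f w = 0) := by
  obtain ⟨g, hg, hgv⟩ := exists_inv hQ hm2 hm hO hr hpow hno i hi
  have hadj := idem_alt hQ hO hr hpow hc hno he hee h0 h1
  have hee' : ∀ v, e (e v) = e v := fun v => congrArg (fun z : V →ₗ[F] V => z v) hee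
  -- `Q` vanishes on totally isotropic subspaces stable under `T i` and `g`
  have hQ0 : ∀ (P : V → Prop), (∀ v, P v → P (g v)) → (∀ v, P v → P (T i v)) →
      (∀ v w, P v → P w → polar Q v w = 0) → ∀ v, P v → Q v = 0 := by
    intro P hPg hPT hPP v hv
    have h2 : Q (T i (g v) - g v) = 0 := by
      rw [sub_eq_add_neg, Q_add, QuadraticMap.map_neg, polar_neg_right, hPP _ _ (hPT _ (hPg _ hv)) (hPg _ hv),
        mem_O.mp (hO i)]
      have h3 := hPP _ _ (hPg _ hv) (hPg _ hv)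
      rw [polar_self'] at h3
      linear_combination h3
    rwa [hgv] at h2
  have hWg : ∀ v, e v = v → e (g v) = g v := fun v hv => by
    have := congrArg (fun z : V →ₗ[F] V => z v) (comm_AA2 hc he hg)
    change e (g v) = g (e v) at this
    rw [this, hv]
  have hW'g : ∀ v, e v = 0 → e (g v) = 0 := fun v hv => by
    have := congrArg (fun z : V →ₗ[F] V => z v) (comm_AA2 hc he hg)
    change e (g v) = g (e v) at this
    rw [this, hv, map_zero]
  refine ⟨LinearMap.ker (1 - e), LinearMap.ker e, ?_, ?_, ?_, ?_, ?_, ?_⟩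
  · constructor
    · rw [Submodule.disjoint_def]
      intro v hv hv'
      rw [LinearMap.mem_ker] at hv hv'
      have h2 : v - e v = 0 := hv
      rw [hv', sub_zero] at h2
      exact h2
    · rw [codisjoint_iff, eq_top_iff]
      intro v _
      rw [Submodule.mem_sup]
      refine ⟨e v, ?_, v - e v, ?_, by abel⟩
      · rw [LinearMap.mem_ker]
        show e v - e (e v) = 0
        rw [hee', sub_self]
      · rw [LinearMap.mem_ker, map_sub, hee', sub_self]
  · intro v hv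
    have hv' : e v = v := (sub_eq_zero.mp (LinearMap.mem_ker.mp hv : v - e v = 0)).symm
    refine hQ0 (fun v => e v = v) hWg (fun v hv => ?_) (fun v w hv hw => ?_) v hv'
    · rw [comm_T hc he, hv]
    · rw [← hv, hadj]
      show polar Q v (w - e w) = 0
      rw [hw, sub_self, polar_zero_right]
  · intro v hv
    refine hQ0 (fun v => e v = 0) hW'g (fun v hv => ?_) (fun v w hv hw => ?_) v (LinearMap.mem_ker.mp hv)
    · rw [comm_T hc he, hv, map_zero]
    · have h2 := hadj v w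
      rw [hv, polar_zero_left] at h2
      have h3 : (1 - e) w = w := by
        show w - e w = w
        rw [hw, sub_zero]
      rw [h3] at h2
      exact h2.symm
  · intro f hf v hv
    rw [LinearMap.mem_ker] at hv ⊢
    have h2 := congrArg (fun z : V →ₗ[F] V => z v) (comm_AA hf he)
    change f (e v) = e (f v) at h2
    have hv' : e v = v := (sub_eq_zero.mp (hv : v - e v = 0)).symm
    show f v - e (f v) = 0
    rw [← h2, hv', sub_self]
  · intro f hf v hv
    rw [LinearMap.mem_ker] at hv ⊢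
    have h2 := congrArg (fun z : V →ₗ[F] V => z v) (comm_AA hf he)
    change f (e v) = e (f v) at h2
    rw [← h2, hv, map_zero]
  · intro v hv hv0 f hf hfv w hw
    have hv' : e v = v := (sub_eq_zero.mp (LinearMap.mem_ker.mp hv : v - e v = 0)).symm
    have hw' : e w = w := (sub_eq_zero.mp (LinearMap.mem_ker.mp hw : w - e w = 0)).symm
    obtain ⟨c, hcA, k, hk, hcc, hcf, hfc, hfk, hkf⟩ := exists_supp hm2 hm hf
    have hce := comm_AA2 hc hcA he
    have hidem : c * e * (c * e) = c * e := by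
      calc c * e * (c * e) = c * (e * c) * e := by simp only [mul_assoc]
        _ = (c * c) * (e * e) := by rw [← hce]; simp only [mul_assoc]
        _ = c * e := by rw [hcc, hee]
    by_cases h3 : c * e = 0
    · calc f w = (f * c) (e w) := by rw [hfc, hw']
        _ = f ((c * e) w) := rfl
        _ = 0 := by rw [h3]; simp
    · exfalso
      have h4 : c * e ≠ 1 := by
        intro h4
        apply h1
        calc e = (c * e) * e := by rw [h4, one_mul]
          _ = c * e := by rw [mul_assoc, hee]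
          _ = 1 := h4
      have h5 := idem_alt hQ hO hr hpow hc hno (mul_mem hcA he) hidem h3 h4
      -- the adjoint of `c e` is `(1 - e) c'`
      obtain ⟨c', hc', hcc'⟩ := exists_adj hr hO hpow hcA
      have h6 : 1 - c * e = (1 - e) * c' := Adj.unique hQ h5 (hcc'.mul hadj)
      have h7 : (1 - c * e) * e = 0 := by
        rw [h6, mul_assoc, ← comm_AA2 hc he hc', ← mul_assoc, sub_mul, one_mul, hee, sub_self, zero_mul]
      have h8 : e = c * e := by
        rw [sub_mul, one_mul, mul_assoc, hee, sub_eq_zero] at h7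
        exact h7
      apply hv0
      calc v = e v := hv'.symm
        _ = (c * e) v := by rw [← h8]
        _ = c (e v) := rfl
        _ = (k * f) v := by rw [hv', hkf]
        _ = k (f v) := rfl
        _ = 0 := by rw [hfv, map_zero]

/-- the field case -/
theorem caseK [Finite F] [FiniteDimensional F V] {m : ℕ} (hQ : Nondeg Q) (hm2 : 2 ≤ m) (hm : ∀ f ∈ AA T, f ^ m = f)
    {r : ι → ℕ} (hO : ∀ i, T i ∈ O Q) (hr : ∀ i, (r i).Prime)
    (hpow : ∀ i, T i ^ r i = 1) (hc : ∀ i j, T i * T j = T j * T i)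
    (hno : ∀ e ∈ AA T, e * e = e → e = 0 ∨ e = 1) (i : ι) (hi : T i ≠ 1) (hi' : ∃ v, T i v ≠ -v) :
    (∃ (κ : V →ₗ[F] V) (s t : F), κ ∈ AA T ∧
      (∀ v, κ (κ v) = s • κ v - t • v) ∧ (∀ a : F, a * a - s * a + t ≠ 0) ∧ ∀ v, Q (κ v) = t * Q v) ∨
    (∃ (κ : V →ₗ[F] V) (s t : F), κ ∈ AA T ∧
      (∀ v, κ (κ v) = s • κ v - t • v) ∧ (∀ a : F, a * a - s * a + t ≠ 0) ∧
      (∀ v w, polar Q (κ v) w = polar Q v (κ w)) ∧ ((2 : F) = 0 → ∀ v, polar Q v (κ v) = 0) ∧
      ∀ v : V, v ≠ 0 → ∀ U : Submodule F V, v ∈ U → (∀ i, ∀ w ∈ U, T i w ∈ U) → 4 ≤ finrank F U) := by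
  classical
  obtain ⟨g, hg, hgv⟩ := exists_inv hQ hm2 hm hO hr hpow (fun e he hee _ => hno e he hee) i hi
  have hfinV : Finite V := Module.finite_of_finite F
  have hfinE : Finite (V →ₗ[F] V) := Module.finite_of_finite F
  have hcm : ∀ f g : AA T, f * g = g * f := fun f g => Subtype.ext (comm_AA2 hc f.2 g.2)
  let hCR : CommRing (AA T) := { (inferInstance : Ring (AA T)) with mul_comm := hcm }
  -- inverses
  have hinv : ∀ f ∈ AA T, f ≠ 0 → ∃ g ∈ AA T, f * g = 1 ∧ g * f = 1 := by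
    intro f hf hf0
    obtain ⟨e, he, g, hg, hee, hef, hfe, hfg, hgf⟩ := exists_supp hm2 hm hf
    rcases hno e he hee with h | h
    · exact absurd (by rw [← hef, h, zero_mul]) hf0
    · exact ⟨g, hg, by rw [hfg, h], by rw [hgf, h]⟩
  have hT1 : ((1 : V →ₗ[F] V)) ≠ 0 := by
    intro h
    apply hi
    apply LinearEquiv.toLinearMap_injective
    have h2 : ∀ z : V →ₗ[F] V, z = 0 := fun z => by rw [← mul_one z, h, mul_zero]
    exact (h2 _).trans (h2 _).symm
  have hfield : IsField (AA T) := by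
    refine ⟨⟨0, 1, ?_⟩, mul_comm, ?_⟩
    · intro h
      exact hT1 (congrArg Subtype.val h).symm
    · rintro ⟨f, hf⟩ hf0
      obtain ⟨g, hg, hfg, -⟩ := hinv f hf (fun h => hf0 (Subtype.ext h))
      exact ⟨⟨g, hg⟩, Subtype.ext hfg⟩
  -- the adjoint as an automorphism
  have hst : ∀ f : AA T, ∃ f' : AA T, Adj Q f.1 f'.1 := by
    rintro ⟨f, hf⟩
    obtain ⟨f', hf', h⟩ := exists_adj hr hO hpow hf
    exact ⟨⟨f', hf'⟩, h⟩
  choose st hst using hst
  have hu : ∀ (f g : AA T), Adj Q f.1 g.1 → st f = g := fun f g h => Subtype.ext (Adj.unique hQ (hst f) h)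
  let φ : AA T →ₐ[F] AA T :=
    { toFun := st
      map_one' := hu _ _ Adj.one
      map_mul' := fun f g => by
        rw [hu (f * g) (st g * st f) ((hst f).mul (hst g)), mul_comm]
      map_zero' := hu _ _ (fun v w => by
        show polar Q (0 : V) w = polar Q v 0
        rw [polar_zero_left, polar_zero_right])
      map_add' := fun f g => hu _ _ ((hst f).add (hst g))
      commutes' := fun a => hu _ _ (Adj.algebraMap a) }
  have hφφ : ∀ f, φ (φ f) = f := fun f => hu _ _ (hst f).symm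
  let τ : AA T ≃ₐ[F] AA T := AlgEquiv.ofAlgHom φ φ (AlgHom.ext hφφ) (AlgHom.ext hφφ)
  have hτ : ∀ f, Adj Q f.1 (τ f).1 := fun f => hst f
  -- `T i` is not self-adjoint
  have hTi : τ ⟨(T i : V →ₗ[F] V), T_mem i⟩ ≠ ⟨(T i : V →ₗ[F] V), T_mem i⟩ := by
    intro h
    have h2 : Adj Q (T i : V →ₗ[F] V) (T i : V →ₗ[F] V) := by
      have h3 := hτ ⟨(T i : V →ₗ[F] V), T_mem i⟩
      rw [h] at h3
      exact h3
    have h3 : (T i : V →ₗ[F] V) = ((T i)⁻¹ : V ≃ₗ[F] V) := Adj.unique hQ h2 (Adj.of_O (hO i))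
    obtain ⟨v, hv⟩ := hi'
    apply hv
    -- `(T + 1) (T - 1) = 0`
    have h4 : ∀ v, T i (T i v) = v := by
      intro v
      have h5 : T i v = (T i)⁻¹ v := congrArg (fun z : V →ₗ[F] V => z v) h3
      rw [h5]
      exact (T i).apply_symm_apply v
    rw [← hgv v, map_sub, h4]
    abel
  obtain ⟨κ, s, t, hκ, hirr, hκF, halt⟩ := exists_quad' hfield τ hφφ ⟨_, hTi⟩
  have hκ' : ∀ v, κ.1 (κ.1 v) = s • κ.1 v - t • v := fun v =>
    congrArg (fun z : AA T => z.1 v) hκ
  have hκT : ∀ v, κ.1 (T i v) = T i (κ.1 v) := comm_T hc κ.2 i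
  rcases halt with ⟨h1, h2⟩ | ⟨h1, h2⟩
  · right
    have hsa : Adj Q κ.1 κ.1 := by
      have := hτ κ
      rwa [h1] at this
    refine ⟨κ.1, s, t, κ.2, hκ', hirr, hsa, fun h20 v => ?_, ?_⟩
    · rw [← hgv v]
      simp only [map_sub, polar_sub_left, polar_sub_right, hκT]
      rw [polar_map (hO i), polar_comm Q (T i (g v)) (κ.1 (g v)), hsa (g v) (T i (g v)), hκT]
      linear_combination (polar Q (g v) (κ.1 (g v)) - polar Q (g v) (T i (κ.1 (g v)))) * h20
    · intro v hv U hvU hU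
      have hUA : ∀ f ∈ AA T, ∀ w ∈ U, f w ∈ U := by
        intro f hf
        induction hf using Algebra.adjoin_induction with
        | mem x hx =>
          obtain ⟨j, rfl⟩ := hx
          exact fun w hw => hU j w hw
        | algebraMap a => exact fun w hw => U.smul_mem a hw
        | add x y _ _ ihx ihy => exact fun w hw => U.add_mem (ihx w hw) (ihy w hw)
        | mul x y _ _ ihx ihy => exact fun w hw => ihx _ (ihy w hw)
      let b : Fin 4 → U := ![⟨v, hvU⟩, ⟨κ.1 v, hUA _ κ.2 v hvU⟩, ⟨T i v, hU i v hvU⟩,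
        ⟨κ.1 (T i v), hUA _ κ.2 _ (hU i v hvU)⟩]
      have hb : LinearIndependent F b := by
        rw [Fintype.linearIndependent_iff]
        intro c hc0
        have h3 : c 0 • v + c 1 • κ.1 v + c 2 • T i v + c 3 • κ.1 (T i v) = 0 := by
          have h4 := congrArg Subtype.val hc0
          simpa [Fin.sum_univ_four, b] using h4
        set x : AA T := ⟨(T i : V →ₗ[F] V), T_mem i⟩ with hx
        have h5 : c 0 • (1 : AA T) + c 1 • κ + c 2 • x + c 3 • (κ * x) = 0 := by
          by_contra h6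
          obtain ⟨k, hk, -, hk2⟩ := hinv _ (c 0 • (1 : AA T) + c 1 • κ + c 2 • x + c 3 • (κ * x)).2
            (fun h => h6 (Subtype.ext h))
          apply hv
          have h7 : (c 0 • (1 : AA T) + c 1 • κ + c 2 • x + c 3 • (κ * x)).1 v = 0 := h3
          calc v = (1 : V →ₗ[F] V) v := rfl
            _ = k ((c 0 • (1 : AA T) + c 1 • κ + c 2 • x + c 3 • (κ * x)).1 v) := by rw [← hk2]; rfl
            _ = 0 := by rw [h7, map_zero]
        obtain ⟨h6, h7, h8, h9⟩ := h2 x hTi (c 0) (c 1) (c 2) (c 3) h5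
        intro j
        fin_cases j
        · exact h6
        · exact h7
        · exact h8
        · exact h9
      have := hb.fintype_card_le_finrank
      simpa using this
  · left
    have hsa : ∀ v w, polar Q (κ.1 v) (κ.1 w) = t * polar Q v w := by
      intro v w
      have h3 : polar Q (κ.1 v) (κ.1 w) = polar Q v ((τ κ * κ).1 w) := hτ κ v (κ.1 w)
      rw [h3, mul_comm, h1]
      show polar Q v (t • w) = _
      rw [polar_smul_right, smul_eq_mul]
    refine ⟨κ.1, s, t, κ.2, hκ', hirr, fun v => ?_⟩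
    have h3 : ∀ v, polar Q v v = 2 * Q v := fun v => polar_self' v
    have h4 : 2 * Q (κ.1 (g v)) = t * (2 * Q (g v)) := by rw [← h3, ← h3, hsa]
    have h5 : ∀ a b : V, Q (a - b) = Q a + Q b - polar Q a b := by
      intro a b
      rw [sub_eq_add_neg, Q_add, QuadraticMap.map_neg, polar_neg_right]
      ring
    have h6 : Q (κ.1 (T i (g v))) = Q (κ.1 (g v)) := by rw [hκT, mem_O.mp (hO i)]
    rw [← hgv v, map_sub, h5, h5, hsa, h6, mem_O.mp (hO i)]
    linear_combination h4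

/-- **BOX G1** (structure of a commuting family of isometries of `p'`-order). -/
theorem box_G1 [Finite F] [FiniteDimensional F V] (hQ : Nondeg Q) {p : ℕ} [CharP F p] [Finite ι] [Nonempty ι]
    (T : ι → V ≃ₗ[F] V) (r : ι → ℕ) (hO : ∀ i, T i ∈ O Q) (hr : ∀ i, (r i).Prime)
    (hrp : ∀ i, r i ≠ p) (hpow : ∀ i, T i ^ r i = 1) (hc : ∀ i j, T i * T j = T j * T i)
    (hns : ∀ i, T i ≠ 1 ∧ ∃ v, T i v ≠ -v) :
    -- an orthogonal decomposition `V = D ⊥ D^⊥`
    (∃ D : Submodule F V, D ≠ ⊥ ∧ D ≠ ⊤ ∧ Nondeg (Q.comp D.subtype) ∧ BicInv T D) ∨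
    -- two totally singular subspaces
    (∃ W W' : Submodule F V, IsCompl W W' ∧ (∀ v ∈ W, Q v = 0) ∧ (∀ v ∈ W', Q v = 0) ∧
      BicInv T W ∧ BicInv T W' ∧
      -- `F[T]` acts on `W` as a field: no proper invariant bicommutant pieces; `W` is homogeneous
      (∀ v ∈ W, v ≠ 0 → ∀ f : V →ₗ[F] V, f ∈ Algebra.adjoin F (Set.range fun i => ((T i : V →ₗ[F] V))) →
        f v = 0 → ∀ w ∈ W, f w = 0)) ∨
    -- `F[T]` is a field; hermitian structure over its subfield `F[κ]` with `q²` elements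
    (∃ (κ : V →ₗ[F] V) (s t : F), κ ∈ Algebra.adjoin F (Set.range fun i => ((T i : V →ₗ[F] V))) ∧
      (∀ v, κ (κ v) = s • κ v - t • v) ∧ (∀ a : F, a * a - s * a + t ≠ 0) ∧ ∀ v, Q (κ v) = t * Q v) ∨
    -- `F[T]` is a field; bilinear structure over its subfield `F[κ]` with `q²` elements; `K` has degree
    -- divisible by four: no vector `v ≠ 0` has an `F[T]`-orbit space of dimension `< 4`
    (∃ (κ : V →ₗ[F] V) (s t : F), κ ∈ Algebra.adjoin F (Set.range fun i => ((T i : V →ₗ[F] V))) ∧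
      (∀ v, κ (κ v) = s • κ v - t • v) ∧ (∀ a : F, a * a - s * a + t ≠ 0) ∧
      (∀ v w, polar Q (κ v) w = polar Q v (κ w)) ∧ ((2 : F) = 0 → ∀ v, polar Q v (κ v) = 0) ∧
      ∀ v : V, v ≠ 0 → ∀ U : Submodule F V, v ∈ U → (∀ i, ∀ w ∈ U, T i w ∈ U) →
        4 ≤ Module.finrank F U) := by
  obtain ⟨i⟩ := (inferInstance : Nonempty ι)
  have hV : Nontrivial V := by
    by_contra h
    rw [not_nontrivial_iff_subsingleton] at h
    exact (hns i).1 (LinearEquiv.ext fun v => Subsingleton.elim _ _)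
  obtain ⟨m, hm2, hm⟩ := exists_pow hr hrp hpow hc
  by_cases hA : ∃ e ∈ AA T, e * e = e ∧ Adj Q e e ∧ e ≠ 0 ∧ e ≠ 1
  · -- a self-adjoint idempotent
    left
    obtain ⟨e, he, hee, hadj, h0, h1⟩ := hA
    have hee' : ∀ v, e (e v) = e v := fun v => congrArg (fun z : V →ₗ[F] V => z v) hee
    refine ⟨LinearMap.range e, ?_, ?_, ?_, ?_⟩
    · intro h
      exact h0 (LinearMap.range_eq_bot.mp h)
    · intro h
      apply h1
      apply LinearMap.ext
      intro v
      have h2 : v ∈ LinearMap.range e := by rw [h]; trivial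
      obtain ⟨w, rfl⟩ := h2
      exact hee' w
    · rintro ⟨x, w, rfl⟩ hx
      apply Subtype.ext
      show e w = 0
      apply hQ
      intro y
      rw [← hee' w, hadj]
      exact hx ⟨e y, y, rfl⟩
    · rintro f hf _ ⟨w, rfl⟩
      have h2 := congrArg (fun z : V →ₗ[F] V => z w) (comm_AA hf he)
      exact ⟨f w, h2.symm⟩
  · have hno : ∀ e ∈ AA T, e * e = e → Adj Q e e → e = 0 ∨ e = 1 := by
      intro e he hee hadj
      by_contra h
      push Not at h
      exact hA ⟨e, he, hee, hadj, h.1, h.2⟩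
    right
    by_cases hB : ∃ e ∈ AA T, e * e = e ∧ e ≠ 0 ∧ e ≠ 1
    · left
      obtain ⟨e, he, hee, h0, h1⟩ := hB
      exact caseB hQ hm2 hm hO hr hpow hc hno i (hns i).1 he hee h0 h1
    · right
      have hno' : ∀ e ∈ AA T, e * e = e → e = 0 ∨ e = 1 := by
        intro e he hee
        by_contra h
        push Not at h
        exact hB ⟨e, he, hee, h.1, h.2⟩
      exact caseK hQ hm2 hm hO hr hpow hc hno' i (hns i).1 (hns i).2

end main

end Cfsg.Agent.H595.RC
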